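import Mathlib

/-!
# NO-3S, `q = 2`, `n = 1`, `|A| ≥ 4`: partial pairs (helper541's texts #18395 (3), #18633 (1))

`A, A'` are elementary abelian 2-subgroups of `H`, `B ≤ A`, `B' ≤ A'` with `C_{A'}(b) = B'` (`1 ≠ b ∈ B`), `C_A(b') = B`
(`1 ≠ b' ∈ B'`); `[M, A] ≤ I ≤ C_M(A)`, `[M, A'] ≤ I' ≤ C_M(A')`.  `C₁ = C_M(⟨A, A'⟩)`.

* `PP.index_two` : `|A : B| = 2`;
* `PP.rel` : `[v, a₁', a₁] ∈ v + C₁`.
-/

set_option autoImplicit false

namespace Cfsg.Agent.Omega.NO3S.KTwo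

variable {H M : Type*} [Group H] [AddCommGroup M] [DistribMulAction H M]

/-- `C_M(⟨A, A'⟩)` -/
def C1 (M : Type*) [AddCommGroup M] {H : Type*} [Group H] [DistribMulAction H M] (A A' : Subgroup H) : AddSubgroup M where
  carrier := {m | (∀ a ∈ A, a • m = m) ∧ ∀ a ∈ A', a • m = m}
  add_mem' {x y} hx hy := ⟨fun a ha => by rw [smul_add, hx.1 a ha, hy.1 a ha], fun a ha => by
    rw [smul_add, hx.2 a ha, hy.2 a ha]⟩
  zero_mem' := ⟨fun a _ => smul_zero a, fun a _ => smul_zero a⟩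
  neg_mem' {x} hx := ⟨fun a ha => by rw [smul_neg, hx.1 a ha], fun a ha => by rw [smul_neg, hx.2 a ha]⟩

theorem mem_C1 {A A' : Subgroup H} {m : M} : m ∈ C1 M A A' ↔ (∀ a ∈ A, a • m = m) ∧ ∀ a ∈ A', a • m = m := Iff.rfl

/-- one half of a partial pair: the hypotheses on `A, B` against `A', B'` -/
structure Half (M : Type*) [AddCommGroup M] {H : Type*} [Group H] [DistribMulAction H M] (A A' B B' : Subgroup H)
    (I : AddSubgroup M) : Prop where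
  sq : ∀ a ∈ A, a * a = 1
  le : B ≤ A
  cen : ∀ b ∈ B, b ≠ 1 → ∀ a ∈ A', b * a = a * b → a ∈ B'
  com : ∀ b ∈ B, ∀ b' ∈ B', b * b' = b' * b
  norm : ∀ b ∈ B', ∀ a ∈ A, b * a * b⁻¹ ∈ A
  ne : ∃ a ∈ A, a ∉ B
  mem_I : ∀ a ∈ A, ∀ m : M, a • m - m ∈ I
  fix_I : ∀ a ∈ A, ∀ x ∈ I, a • x = x
  I_B : ∀ b ∈ B', ∀ x ∈ I, b • x ∈ I

/-- a partial pair -/
structure PP (A A' B B' : Subgroup H) (I I' : AddSubgroup M) (v : M) : Prop where
  l : Half M A A' B B' I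
  r : Half M A' A B' B I'
  /-- `e` with `φ_e|B ≠ 0` -/
  ex : ∃ e : M, (∃ b ∈ B, b • e - e = v) ∧ ∀ b ∈ B, b • e - e = 0 ∨ b • e - e = v
  v_not : v ∉ C1 M A A'

/-- the commutator `[g, c]` -/
def cmt (g c : H) : H := g * c * g⁻¹ * c⁻¹

theorem cmt_mul (g c : H) : cmt g c * c = g * c * g⁻¹ := by unfold cmt; group

theorem C1_symm {A A' : Subgroup H} {m : M} : m ∈ C1 M A A' ↔ m ∈ C1 M A' A := and_comm

namespace Half

variable {A A' B B' : Subgroup H} {I I' : AddSubgroup M}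

theorem inv (h : Half M A A' B B' I) {a : H} (ha : a ∈ A) : a⁻¹ = a := inv_eq_of_mul_eq_one_left (h.sq a ha)

theorem comm (h : Half M A A' B B' I) {a b : H} (ha : a ∈ A) (hb : b ∈ A) : a * b = b * a := by
  have h1 := h.inv (A.mul_mem ha hb)
  rw [mul_inv_rev, h.inv ha, h.inv hb] at h1
  exact h1.symm

/-- `[A, B'] ≤ B` -/
theorem cmt_mem (h : Half M A A' B B' I) (h' : Half M A' A B' B I') {a b : H} (ha : a ∈ A) (hb : b ∈ B') :
    cmt a b ∈ B := by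
  by_cases hb1 : b = 1
  · rw [hb1]
    have : cmt a 1 = 1 := by unfold cmt; group
    rw [this]
    exact B.one_mem
  have hbb : b⁻¹ = b := h'.inv (h'.le hb)
  have h1 : b * a * b⁻¹ ∈ A := h.norm b hb a ha
  have e1 : cmt a b = a * (b * a * b⁻¹) := by
    unfold cmt
    rw [h.inv ha]; group
  have h2 : cmt a b ∈ A := by rw [e1]; exact A.mul_mem ha h1
  refine h'.cen b hb hb1 _ h2 ?_
  have e2 : b * cmt a b * b⁻¹ = (b * a * b⁻¹) * a := by
    have e3 : b * b = 1 := h'.sq b (h'.le hb)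
    rw [e1]
    calc b * (a * (b * a * b⁻¹)) * b⁻¹ = (b * a * b⁻¹) * (b * b * a * (b * b)⁻¹) := by group
      _ = (b * a * b⁻¹) * a := by rw [e3, one_mul, inv_one, mul_one]
  have e3 : b * cmt a b * b⁻¹ = cmt a b := by rw [e2, e1]; exact h.comm h1 ha
  calc b * cmt a b = b * cmt a b * b⁻¹ * b := by group
    _ = cmt a b * b := by rw [e3]

/-- `b ↦ [a, b]` is injective on `B'` for `a ∈ A - B` -/
theorem cmt_inj (h : Half M A A' B B' I) (h' : Half M A' A B' B I') {a : H} (ha : a ∈ A) (haB : a ∉ B) {b c : H}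
    (hb : b ∈ B') (hc : c ∈ B') (e : cmt a b = cmt a c) : b = c := by
  by_contra hne
  apply haB
  have hbc : b⁻¹ * c ∈ B' := B'.mul_mem (B'.inv_mem hb) hc
  refine h'.cen _ hbc (fun e1 => hne (inv_mul_eq_one.1 e1)) a ha ?_
  -- `a b a⁻¹ b⁻¹ = a c a⁻¹ c⁻¹`
  unfold cmt at e
  have h1 : a * b * a⁻¹ * b⁻¹ ∈ B := h.cmt_mem h' ha hb
  have h2 : (a * b * a⁻¹ * b⁻¹) * b = b * (a * b * a⁻¹ * b⁻¹) := h.com _ h1 b hb
  have h3 : (a * b * a⁻¹ * b⁻¹) * c = c * (a * b * a⁻¹ * b⁻¹) := h.com _ h1 c hc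
  have e4 : a * b * a⁻¹ = (a * b * a⁻¹ * b⁻¹) * b := by group
  have e5 : a * c * a⁻¹ = (a * b * a⁻¹ * b⁻¹) * c := by rw [e]; group
  have e6 : a * (b⁻¹ * c) * a⁻¹ = b⁻¹ * c := by
    calc a * (b⁻¹ * c) * a⁻¹ = (a * b * a⁻¹)⁻¹ * (a * c * a⁻¹) := by group
      _ = ((a * b * a⁻¹ * b⁻¹) * b)⁻¹ * ((a * b * a⁻¹ * b⁻¹) * c) := by rw [← e4, ← e5]
      _ = b⁻¹ * c := by group
  calc b⁻¹ * c * a = (a * (b⁻¹ * c) * a⁻¹) * a := by rw [e6]
    _ = a * (b⁻¹ * c) := by group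

/-- `[I, B'] ≤ C₁` -/
theorem comm_C1 (h : Half M A A' B B' I) (h' : Half M A' A B' B I') {x : M} (hx : x ∈ I) {b : H} (hb : b ∈ B') :
    b • x - x ∈ C1 M A A' := by
  have h1 : b • x - x ∈ I := I.sub_mem (h.I_B b hb x hx) hx
  have h2 : b • x - x ∈ I' := h'.mem_I b (h'.le hb) x
  exact ⟨fun a ha => h.fix_I a ha _ h1, fun a ha => h'.fix_I a ha _ h2⟩

/-- `χ(θ_a(b')) = a χ(b') - χ(b')` modulo `C₁` -/
theorem chi (h : Half M A A' B B' I) (h' : Half M A' A B' B I') (e : M) {a b : H} (ha : a ∈ A) (hb : b ∈ B') :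
    (cmt a b • e - e) - (a • (b • e - e) - (b • e - e)) ∈ C1 M A A' := by
  set t := cmt a b with ht
  have htB : t ∈ B := h.cmt_mem h' ha hb
  have hC : ∀ y ∈ C1 M A A', a • y = y := fun y hy => hy.1 a ha
  have hx : a⁻¹ • e - e ∈ I := h.mem_I _ (A.inv_mem ha) e
  have h1 := h.comm_C1 h' hx hb
  have h2 : b • e - e ∈ I' := h'.mem_I b (h'.le hb) e
  have h3 : t • (b • e - e) - (b • e - e) ∈ C1 M A A' := C1_symm.1 (h'.comm_C1 h h2 htB)
  have e1 : (t * b) • e - e = a • (b • e - e) + (b • (a⁻¹ • e - e) - (a⁻¹ • e - e)) := by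
    have e2 : (t * b) • e = a • b • a⁻¹ • e := by
      rw [ht, cmt_mul, mul_smul, mul_smul]
    have e3 : a • (b • (a⁻¹ • e - e) - (a⁻¹ • e - e)) = b • (a⁻¹ • e - e) - (a⁻¹ • e - e) := hC _ h1
    rw [e2, ← e3, ← smul_add]
    have e4 : b • e - e + (b • (a⁻¹ • e - e) - (a⁻¹ • e - e)) = b • a⁻¹ • e - a⁻¹ • e := by
      rw [smul_sub]; abel
    rw [e4, smul_sub, smul_inv_smul]
  have e5 : (t * b) • e - e = (t • e - e) + (b • e - e) + (t • (b • e - e) - (b • e - e)) := by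
    rw [mul_smul, smul_sub]; abel
  have e6 : (t • e - e) - (a • (b • e - e) - (b • e - e)) =
      (b • (a⁻¹ • e - e) - (a⁻¹ • e - e)) - (t • (b • e - e) - (b • e - e)) := by
    have := e1.symm.trans e5
    have e7 : t • e - e = a • (b • e - e) + (b • (a⁻¹ • e - e) - (a⁻¹ • e - e)) - (b • e - e) -
        (t • (b • e - e) - (b • e - e)) := by rw [this]; abel
    rw [e7]; abel
  rw [e6]
  exact AddSubgroup.sub_mem _ h1 h3

end Half

namespace PP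

variable {A A' B B' : Subgroup H} {I I' : AddSubgroup M} {v : M}

/-- the main computation -/
theorem main [Finite H] (h : PP A A' B B' I I' v) : ∃ e : M, ∃ P P' : Subgroup H,
    (∀ b ∈ B, b ∈ P ↔ b • e - e = 0) ∧ (∀ b ∈ B, b ∉ P → b • e - e = v) ∧ (∃ b ∈ B, b ∉ P) ∧
    (∀ b ∈ B', b ∈ P' ↔ b • e - e ∈ C1 M A A') ∧ (∃ b ∈ B', b ∉ P') ∧
    (∀ a ∈ A, a ∉ B → ∀ b ∈ B', b ∉ P' → cmt a b ∉ P) ∧
    (∀ a ∈ A', a ∉ B' → ∀ b ∈ B, b ∉ P → cmt a b ∉ P') ∧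
    ∀ b ∈ B, ∀ c ∈ B, b ∉ P → c ∉ P → b * c ∈ P := by
  obtain ⟨e, ⟨b0, hb0, hb0v⟩, hev⟩ := h.ex
  have hv0 : v ≠ 0 := fun e1 => h.v_not (by rw [e1]; exact AddSubgroup.zero_mem _)
  have hvA : ∀ b ∈ A, b • v = v := fun b hb => by
    have h1 : v ∈ I := by rw [← hb0v]; exact h.l.mem_I b0 (h.l.le hb0) e
    exact h.l.fix_I b hb v h1
  let P : Subgroup H :=
    { carrier := {b | b ∈ B ∧ b • e = e}
      mul_mem' := fun {x y} hx hy => ⟨B.mul_mem hx.1 hy.1, by rw [mul_smul, hy.2, hx.2]⟩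
      one_mem' := ⟨B.one_mem, one_smul _ _⟩
      inv_mem' := fun {x} hx => ⟨B.inv_mem hx.1, by rw [inv_smul_eq_iff, hx.2]⟩ }
  have hB'C : ∀ b ∈ B', ∀ x ∈ C1 M A A', b • x = x := fun b hb x hx => hx.2 b (h.r.le hb)
  have hadd : ∀ b ∈ B', ∀ c ∈ B', (b * c) • e - e = (b • e - e) + (c • e - e) := by
    intro b hb c hc
    have h1 : c • e - e ∈ I' := h.r.mem_I c (h.r.le hc) e
    have h2 := h.r.fix_I b (h.r.le hb) _ h1
    calc (b * c) • e - e = b • (c • e - e) + (b • e - e) := by rw [mul_smul, smul_sub]; abel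
      _ = _ := by rw [h2]; abel
  let P' : Subgroup H :=
    { carrier := {b | b ∈ B' ∧ b • e - e ∈ C1 M A A'}
      mul_mem' := fun {x y} hx hy => ⟨B'.mul_mem hx.1 hy.1, by
        rw [hadd x hx.1 y hy.1]; exact AddSubgroup.add_mem _ hx.2 hy.2⟩
      one_mem' := ⟨B'.one_mem, by rw [one_smul, sub_self]; exact AddSubgroup.zero_mem _⟩
      inv_mem' := fun {x} hx => ⟨B'.inv_mem hx.1, by
        rw [h.r.inv (h.r.le hx.1)]; exact hx.2⟩ }
  have hP : ∀ b ∈ B, b ∈ P ↔ b • e - e = 0 := fun b hb =>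
    ⟨fun hb1 => sub_eq_zero.2 hb1.2, fun hb1 => ⟨hb, sub_eq_zero.1 hb1⟩⟩
  have hP' : ∀ b ∈ B', b ∈ P' ↔ b • e - e ∈ C1 M A A' := fun b hb => ⟨fun hb1 => hb1.2, fun hb1 => ⟨hb, hb1⟩⟩
  have hPv : ∀ b ∈ B, b ∉ P → b • e - e = v := fun b hb hbP =>
    (hev b hb).resolve_left fun e1 => hbP ((hP b hb).2 e1)
  have hC0 : ∀ b ∈ B, b • e - e ∈ C1 M A A' → b ∈ P := fun b hb hc => by
    rw [hP b hb]
    rcases hev b hb with e1 | e1
    · exact e1
    · rw [e1] at hc; exact absurd hc h.v_not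
  -- the maps
  obtain ⟨a, ha, haB⟩ := h.l.ne
  obtain ⟨a', ha', haB'⟩ := h.r.ne
  have hθP : ∀ a ∈ A, ∀ b ∈ P', cmt a b ∈ P := by
    intro a ha b hb
    refine hC0 _ (h.l.cmt_mem h.r ha hb.1) ?_
    have h1 := h.l.chi h.r e ha hb.1
    have h2 : a • (b • e - e) - (b • e - e) = 0 := by rw [hb.2.1 a ha, sub_self]
    rwa [h2, sub_zero] at h1
  have hθP' : ∀ a ∈ A', ∀ b ∈ P, cmt a b ∈ P' := by
    intro a ha b hb
    refine ⟨h.r.cmt_mem h.l ha hb.1, ?_⟩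
    have h1 := h.r.chi h.l e ha hb.1
    have h2 : a • (b • e - e) - (b • e - e) = 0 := by rw [hb.2, sub_self, smul_zero, sub_zero]
    rw [h2, sub_zero] at h1
    exact C1_symm.1 h1
  have hc1 : ∀ (a) (ha : a ∈ A) (_ : a ∉ B), Nat.card P' ≤ Nat.card P := fun a ha haB =>
    Nat.card_le_card_of_injective (fun b : P' => (⟨cmt a b, hθP a ha b b.2⟩ : P)) fun x y hxy =>
      Subtype.ext (h.l.cmt_inj h.r ha haB x.2.1 y.2.1 (congrArg Subtype.val hxy))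
  have hc2 : ∀ (a) (ha : a ∈ A') (_ : a ∉ B'), Nat.card P ≤ Nat.card P' := fun a ha haB =>
    Nat.card_le_card_of_injective (fun b : P => (⟨cmt a b, hθP' a ha b b.2⟩ : P')) fun x y hxy =>
      Subtype.ext (h.r.cmt_inj h.l ha haB x.2.1 y.2.1 (congrArg Subtype.val hxy))
  have hcP : Nat.card P = Nat.card P' := le_antisymm (hc2 a' ha' haB') (hc1 a ha haB)
  -- bijectivity on `P`
  have hbij : ∀ a ∈ A, a ∉ B → ∀ c ∈ P, ∃ b ∈ P', cmt a b = c := by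
    intro a ha haB c hc
    have hinj : Function.Injective fun b : P' => (⟨cmt a b, hθP a ha b b.2⟩ : P) := fun x y hxy =>
      Subtype.ext (h.l.cmt_inj h.r ha haB x.2.1 y.2.1 (congrArg Subtype.val hxy))
    obtain ⟨b, hb⟩ := (hinj.bijective_of_nat_card_le (le_of_eq hcP)).2 ⟨c, hc⟩
    exact ⟨b, b.2, congrArg Subtype.val hb⟩
  have hbij' : ∀ a ∈ A', a ∉ B' → ∀ c ∈ P', ∃ b ∈ P, cmt a b = c := by
    intro a ha haB c hc
    have hinj : Function.Injective fun b : P => (⟨cmt a b, hθP' a ha b b.2⟩ : P') := fun x y hxy =>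
      Subtype.ext (h.r.cmt_inj h.l ha haB x.2.1 y.2.1 (congrArg Subtype.val hxy))
    obtain ⟨b, hb⟩ := (hinj.bijective_of_nat_card_le (le_of_eq hcP.symm)).2 ⟨c, hc⟩
    exact ⟨b, b.2, congrArg Subtype.val hb⟩
  have hout : ∀ a ∈ A, a ∉ B → ∀ b ∈ B', b ∉ P' → cmt a b ∉ P := by
    intro a ha haB b hb hbP hcP
    obtain ⟨c, hc, hc1⟩ := hbij a ha haB _ hcP
    exact hbP (h.l.cmt_inj h.r ha haB hc.1 hb hc1 ▸ hc)
  have hout' : ∀ a ∈ A', a ∉ B' → ∀ b ∈ B, b ∉ P → cmt a b ∉ P' := by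
    intro a ha haB b hb hbP hcP
    obtain ⟨c, hc, hc1⟩ := hbij' a ha haB _ hcP
    exact hbP (h.r.cmt_inj h.l ha haB hc.1 hb hc1 ▸ hc)
  have hb0P : b0 ∉ P := fun e1 => hv0 (by rw [← hb0v]; exact (hP b0 hb0).1 e1)
  refine ⟨e, P, P', hP, hPv, ⟨b0, hb0, hb0P⟩, hP', ⟨cmt a' b0, h.r.cmt_mem h.l ha' hb0, hout' a' ha' haB' b0 hb0 hb0P⟩,
    hout, hout', ?_⟩
  intro b hb c hc hbP hcP
  rw [hP _ (B.mul_mem hb hc)]
  have h1 := hPv b hb hbP
  have h2 := hPv c hc hcP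
  have h3 : b • c • e = e := by
    have e1 : c • e = v + e := by rw [← h2]; abel
    have e2 : b • e = v + e := by rw [← h1]; abel
    have e3 : c • c • e = e := by rw [← mul_smul, h.l.sq c (h.l.le hc), one_smul]
    rw [e1, smul_add, hvA c (h.l.le hc), e1] at e3
    rw [e1, smul_add, hvA b (h.l.le hb), e2]
    exact e3
  rw [mul_smul, h3, sub_self]

/-- **(3a)** `|A : B| = 2` -/
theorem index_two [Finite H] (h : PP A A' B B' I I' v) {a c : H} (ha : a ∈ A) (haB : a ∉ B) (hc : c ∈ A) (hcB : c ∉ B) :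
    a * c ∈ B := by
  by_contra hac
  obtain ⟨e, P, P', -, -, -, -, ⟨b, hb, hbP⟩, hout, -, hmul⟩ := h.main
  apply hout _ (A.mul_mem ha hc) hac b hb hbP
  have h1 := h.l.cmt_mem h.r ha hb
  have h2 := h.l.cmt_mem h.r hc hb
  have e1 : cmt (a * c) b = cmt c b * cmt a b := by
    have e2 : a * cmt c b = cmt c b * a := h.l.comm ha (h.l.le h2)
    calc cmt (a * c) b = a * cmt c b * (b * a⁻¹ * b⁻¹) := by unfold cmt; group
      _ = cmt c b * a * (b * a⁻¹ * b⁻¹) := by rw [e2]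
      _ = cmt c b * cmt a b := by unfold cmt; group
  rw [e1]
  exact hmul _ h2 _ h1 (hout c hc hcB b hb hbP) (hout a ha haB b hb hbP)

/-- **(3b)** -/
theorem rel [Finite H] (h : PP A A' B B' I I' v) {a a' : H} (ha : a ∈ A) (haB : a ∉ B) (ha' : a' ∈ A') (haB' : a' ∉ B') :
    a • (a' • v - v) - (a' • v - v) - v ∈ C1 M A A' := by
  obtain ⟨e, P, P', hP, hPv, ⟨b, hb, hbP⟩, hP', -, hout, hout', -⟩ := h.main
  have hbv := hPv b hb hbP
  set c := cmt a' b with hc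
  have hcB : c ∈ B' := h.r.cmt_mem h.l ha' hb
  have hcP := hout' a' ha' haB' b hb hbP
  have h1 : (c • e - e) - (a' • v - v) ∈ C1 M A A' := by
    have := C1_symm.1 (h.r.chi h.l e ha' hb)
    rwa [hbv] at this
  have hdB := h.l.cmt_mem h.r ha hcB
  have hdv := hPv _ hdB (hout a ha haB c hcB hcP)
  have h2 := h.l.chi h.r e ha hcB
  rw [hdv] at h2
  have h3 : a • ((c • e - e) - (a' • v - v)) = (c • e - e) - (a' • v - v) := h1.1 a ha
  have e1 : a • (a' • v - v) - (a' • v - v) = a • (c • e - e) - (c • e - e) := by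
    rw [smul_sub a (c • e - e) (a' • v - v)] at h3
    have h4 : a • (a' • v - v) = a • (c • e - e) - ((c • e - e) - (a' • v - v)) := by rw [← h3]; abel
    rw [h4]; abel
  rw [e1]
  have h4 := AddSubgroup.neg_mem _ h2
  have e2 : -(v - (a • (c • e - e) - (c • e - e))) = a • (c • e - e) - (c • e - e) - v := by abel
  rwa [e2] at h4

end PP

end Cfsg.Agent.Omega.NO3S.KTwo
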